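import Cfsg.Agent.H832.K547.JTwo
import Cfsg.Agent.H226.R2.Base
import Cfsg.Agent.H776.CY.Congr

/-!
# S4829, `p = 2`: the row `J2` (helper477)

The rational character of degree 63 of the group of the hundred points (helper832: invariant under the odd involution).
-/

set_option autoImplicit false
set_option maxRecDepth 100000

namespace Cfsg.Agent.H477.R2.JTwo

open Cfsg Cfsg.Agent.H821.K547 Cfsg.Agent.H832.K547.JTwo Cfsg.Agent.H770.CY
open Cfsg.Agent.SporadicA.PermTab Cfsg.Agent.SporadicA.J2Data Cfsg.Agent.SporadicA.J2Hundred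
open Cfsg.Agent.H300.K4.JTwoData Cfsg.Agent.H300.K4.JTwoDeg Cfsg.Agent.H678.DG.Blk

/-- the rational character of degree 63 is invariant under `τ₀` -/
theorem exists_rat : ∃ χ : G → ℂ, IsIrrCharacter G χ ∧ χ 1 = (63 : ℕ) ∧ (∀ g : G, ∃ q : ℚ, χ g = q) ∧
    ∀ g : G, χ (τ₀ g) = χ g := by
  obtain ⟨χ, h1, h2, h3⟩ := exists_63
  exact ⟨χ, h1, h2, fun g => ⟨_, h3 g⟩, fun g => by rw [h3, h3, sum_inv (om a63) g (τ₀ g) (τ₀_coe g)]⟩

theorem row2_G : Row2 G := by
  have hc : Nat.card Cfsg.Spor.J2 = 604800 := Cfsg.Agent.H300.K4.JTwo.card_J2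
  obtain ⟨f⟩ := J2.HundredGens.J2_iso hc
  have hO : (MulAut.conj : G →* MulAut G).range.index = 2 := by
    rw [← H55.OutGen.card_out_eq_index, ← H55.OutGen.card_out_congr f]
    exact S2066.result
  obtain ⟨χ, h1, h2, h3, h4⟩ := exists_rat
  refine H226.R2.row2_of_odd_index (Γ := (MulAut.conj : G →* MulAut G).range ⊔ Subgroup.zpowers τ₀) ?_
    ⟨χ, h1, ?_, ⟨63, by decide, h2⟩, h3, sup_le ?_ ?_⟩
  · rw [H226.R2.sup_zpowers_eq_top (by rw [hO]) ?_, Subgroup.index_top]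
    · exact odd_one
    · intro s hs
      exact not_inn ⟨s, fun x => by rw [hs, MulAut.conj_apply]⟩
  · intro h
    rw [h, Pi.one_apply] at h2
    have h5 : (1 : ℕ) = 63 := by exact_mod_cast h2
    omega
  · exact H226.R2.inner_le_stab (Cfsg.Agent.Characters.Core.isIrr_isClassFunction h1)
  · rw [Subgroup.zpowers_le]
    exact h4

theorem row2_J2 : Row2 Spor.J2 := by
  obtain ⟨f⟩ := J2.HundredGens.J2_iso Cfsg.Agent.H300.K4.JTwo.card_J2
  exact H776.CY.Row2.congr f row2_G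

theorem rowFor2_J2 : RowFor2 (fun X _ => Spor.IsoJ2 X) := by
  intro X _ _ _ _ hX
  obtain ⟨e⟩ := hX
  exact H776.CY.Row2.congr e row2_J2

end Cfsg.Agent.H477.R2.JTwo
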